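import Cfsg.Agent.Lib.ThreeTrans.Classification.Alias.Refl
import Mathlib.FieldTheory.Finite.GaloisField

/-!
Fischer's classification, slice ALIAS: the four small coincidences (owner: helper10).
-/

set_option autoImplicit false

namespace CfsgLib.ThreeTrans.Fischer

open Cfsg RankThree
open QuadraticMap (polarBilin)

universe u

/-- Slice ALIAS. -/
theorem aliasStatement : AliasStatement.{u} := by
  intro G _ _ D
  obtain ⟨e8, he8⟩ := sym_eight_model
  obtain ⟨e6, he6⟩ := sym_six_model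
  refine ⟨⟨?_, ?_⟩, ⟨?_, ?_⟩, ⟨?_, ?_⟩, ⟨?_, ?_⟩⟩
  · rintro ⟨e, he⟩
    exact ⟨e.trans e8.symm, image_symm e e8 (he.trans he8.symm)⟩
  · rintro ⟨e, he⟩
    exact ⟨e.trans e8, (image_trans e he e8).trans he8⟩
  · rintro ⟨e, he⟩
    obtain ⟨Q, hQ, hdet⟩ := exists_form false
    obtain ⟨e', he'⟩ := refl_five_false (one_ne_zero) hQ hdet
    exact ⟨Q, hQ, 1, one_ne_zero, hdet, e.trans e'.symm, image_symm e e' (he.trans he'.symm)⟩
  · rintro ⟨Q, hQ, c, hc, hdet, e, he⟩
    obtain ⟨e', he'⟩ := refl_five_false hc hQ hdet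
    exact ⟨e.trans e', (image_trans e he e').trans he'⟩
  · rintro ⟨F, _, _, hF, e, he⟩
    obtain ⟨Q, hQ, hdet⟩ := exists_form true
    obtain ⟨-, hcard, hP⟩ := refl_five_true one_ne_zero hQ hdet
    obtain ⟨e', he'⟩ := unit_four_of_pol hP hcard F hF
    exact ⟨Q, hQ, 1, one_ne_zero, hdet, e.trans e'.symm, image_symm e e' (he.trans he'.symm)⟩
  · rintro ⟨Q, hQ, c, hc, hdet, e, he⟩
    obtain ⟨-, hcard, hP⟩ := refl_five_true hc hQ hdet
    letI : Fintype (GaloisField 2 2) := Fintype.ofFinite _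
    have hK : Fintype.card (GaloisField 2 2) = 4 := by
      rw [Fintype.card_eq_nat_card, GaloisField.card 2 2 two_ne_zero]
      norm_num
    obtain ⟨e', he'⟩ := unit_four_of_pol hP hcard (GaloisField 2 2) hK
    exact ⟨GaloisField 2 2, inferInstance, inferInstance, hK, e.trans e', (image_trans e he e').trans he'⟩
  · rintro ⟨e, he⟩
    exact ⟨e.trans e6.symm, image_symm e e6 (he.trans he6.symm)⟩
  · rintro ⟨e, he⟩
    exact ⟨e.trans e6, (image_trans e he e6).trans he6⟩

end CfsgLib.ThreeTrans.Fischer
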