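import Cfsg.Agent.Lib.ThreeTrans.Classification.Section
import Cfsg.Agent.Lib.ThreeTrans.SymSection.Adapter
import Cfsg.Agent.S2530

/-!
Fischer's classification, slice RECON, the step from `S₅` to `S₇`: a chain of six members
(owner: helper22).
-/

set_option autoImplicit false

namespace CfsgLib.ThreeTrans.Fischer

open Cfsg RankThree CoreNC

universe u

/-- The pairs of five points. -/
abbrev Pair5 : Finset (Finset (Fin 5)) := (Finset.univ : Finset (Fin 5)).powersetCard 2

theorem mem_pair5 {s : Finset (Fin 5)} : s ∈ Pair5 ↔ s.card = 2 := by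
  simp [Pair5]

theorem card_disjoint_pair {s : Finset (Fin 5)} (hs : s ∈ Pair5) :
    (Pair5.filter fun t => Disjoint s t).card = 3 := by
  have h : Pair5.filter (fun t => Disjoint s t) = sᶜ.powersetCard 2 := by
    ext t
    simp only [Finset.mem_filter, Finset.mem_powersetCard]
    refine ⟨fun h => ⟨fun a ha => Finset.mem_compl.2 fun has => Finset.disjoint_left.1 h.2 has ha, h.1.2⟩,
      fun h => ⟨⟨Finset.subset_univ t, h.2⟩, Finset.disjoint_left.2 fun a has ha => Finset.mem_compl.1 (h.1 ha) has⟩⟩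
  rw [h, Finset.card_powersetCard, Finset.card_compl, mem_pair5.1 hs]
  rfl

/-- Four pairs leave a set in which every pair is disjoint from one other just when they form a star. -/
theorem star_of_inner (T : Finset (Finset (Fin 5))) (hT : T ∈ Pair5.powersetCard 4)
    (h : ∀ s ∈ Pair5 \ T, ((Pair5 \ T).filter fun t => Disjoint s t).card = 1) :
    ∃ k : Fin 5, ∀ s ∈ Pair5, s ∈ T ↔ k ∈ s := by
  classical
  obtain ⟨hsub, hT4⟩ := Finset.mem_powersetCard.1 hT
  have h10 : Pair5.card = 10 := by rw [Finset.card_powersetCard]; rfl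
  have hsplit : ∀ s ∈ Pair5, (T.filter fun t => Disjoint s t).card +
      ((Pair5 \ T).filter fun t => Disjoint s t).card = 3 := by
    intro s hs
    rw [← Finset.card_union_of_disjoint (Finset.disjoint_filter_filter Finset.disjoint_sdiff),
      ← Finset.filter_union, Finset.union_sdiff_of_subset hsub, card_disjoint_pair hs]
  have hdc := Finset.sum_card_bipartiteAbove_eq_sum_card_bipartiteBelow
    (s := Pair5 \ T) (t := T) (r := fun s t : Finset (Fin 5) => Disjoint s t)
  have hL : ∑ s ∈ Pair5 \ T, (T.filter fun t => Disjoint s t).card = 12 := by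
    rw [Finset.sum_congr rfl (fun s hs => (show _ = 2 by
      have := hsplit s (Finset.mem_sdiff.1 hs).1; rw [h s hs] at this; omega)), Finset.sum_const,
      Finset.card_sdiff_of_subset hsub, h10, hT4]
    rfl
  have hR : ∀ t ∈ T, ((Pair5 \ T).filter fun s => Disjoint s t).card = 3 := by
    by_contra hc
    push Not at hc
    obtain ⟨t, ht, hne⟩ := hc
    have hle : ∀ u ∈ T, ((Pair5 \ T).filter fun s => Disjoint s u).card ≤ 3 := fun u hu => by
      rw [← card_disjoint_pair (hsub hu)]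
      exact Finset.card_le_card fun s hs =>
        Finset.mem_filter.2 ⟨(Finset.mem_sdiff.1 (Finset.mem_filter.1 hs).1).1, (Finset.mem_filter.1 hs).2.symm⟩
    have hlt := Finset.sum_lt_sum hle ⟨t, ht, lt_of_le_of_ne (hle t ht) hne⟩
    rw [Finset.sum_const, hT4] at hlt
    simp only [Finset.bipartiteAbove, Finset.bipartiteBelow] at hdc
    rw [← hdc, hL] at hlt
    simp at hlt
  have hmeet : ∀ u ∈ T, ∀ t ∈ T, u ≠ t → ¬ Disjoint u t := by
    intro u hu t ht _ hd
    have h1 := hsplit t (hsub ht)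
    have h2 : 1 ≤ (T.filter fun s => Disjoint t s).card :=
      Finset.card_pos.2 ⟨u, Finset.mem_filter.2 ⟨hu, hd.symm⟩⟩
    have h3 : ((Pair5 \ T).filter fun s => Disjoint t s).card = 3 := by
      rw [← hR t ht]
      exact congrArg Finset.card (Finset.filter_congr fun s _ => disjoint_comm)
    omega
  obtain ⟨k, hk⟩ := SymSection.star_of_meeting (F := (T : Set (Finset (Fin 5)))) (Set.toFinite _)
    (fun u hu => mem_pair5.1 (hsub hu)) hmeet (by rw [Set.ncard_coe_finset, hT4])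
  have hstar : T = Pair5.filter fun s => k ∈ s :=
    Finset.eq_of_subset_of_card_le (fun u hu => Finset.mem_filter.2 ⟨hsub hu, hk u hu⟩) (by
      rw [hT4]; clear hk; revert k; decide +kernel)
  exact ⟨k, fun s hs => by rw [hstar, Finset.mem_filter, and_iff_right hs]⟩

/-- Six members in a chain give a symmetric group of degree seven. -/
theorem sym_seven_of_chain {G : Type u} [Group G] [Finite G] {D : Set G} (hcl : IsThreeTranspositionClass D)
    (hcard : D.ncard = 21) (f : Fin 6 → G) (hf : ∀ i, f i ∈ D)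
    (hinj : f 0 ≠ f 1) (hcm : ∀ i j : Fin 6, Commute (f i) (f j) ↔ ¬ ((i : ℕ) + 1 = j ∨ (j : ℕ) + 1 = i)) :
    ∃ e : G ≃* Equiv.Perm (Fin 7), e '' D = {σ : Equiv.Perm (Fin 7) | σ.IsSwap} := by
  classical
  obtain ⟨cs, hcs⟩ := Cfsg.Agent.S2530.result 6
  have hlift : CoxeterMatrix.IsLiftable (CoxeterMatrix.A 6) f := by
    intro i j
    show (f i * f j) ^ (if i = j then 1 else (if (j : ℕ) + 1 = i ∨ (i : ℕ) + 1 = j then 3 else 2)) = 1
    by_cases hij : i = j
    · rw [if_pos hij, pow_one, hij, mul_self hcl.1 (hf j)]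
    rw [if_neg hij]
    by_cases hadj : (j : ℕ) + 1 = i ∨ (i : ℕ) + 1 = j
    · rw [if_pos hadj]
      exact orderOf_dvd_iff_pow_eq_one.1 (orderOf_mul hcl.1 (hf i) (hf j) fun h =>
        (hcm i j).1 h hadj.symm).dvd
    · rw [if_neg hadj, pow_two]
      have h := (hcm i j).2 fun h' => hadj h'.symm
      rw [mul_assoc, ← mul_assoc (f j) (f i) (f j), ← h.eq, mul_assoc, mul_self hcl.1 (hf j), mul_one,
        mul_self hcl.1 (hf i)]
  let φ : Equiv.Perm (Fin 7) →* G := cs.lift ⟨f, hlift⟩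
  have hφ : ∀ i, φ (Equiv.swap (Fin.castSucc i) i.succ) = f i := fun i => by
    rw [← hcs i]; exact cs.lift_apply_simple hlift i
  have hker : φ.ker = ⊥ := by
    by_contra hne
    have h7 : 5 ≤ Nat.card (Fin 7) := by simp
    have hle := Equiv.Perm.alternatingGroup_le_of_normal h7 ((Subgroup.nontrivial_iff_ne_bot _).2 hne)
    have hmem : Equiv.swap ((0 : Fin 6).castSucc) (0 : Fin 6).succ * Equiv.swap ((1 : Fin 6).castSucc) (1 : Fin 6).succ ∈
        alternatingGroup (Fin 7) := Equiv.Perm.mem_alternatingGroup.2 (by decide)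
    have h1 : f 0 * f 1 = 1 := by
      have := hle hmem
      rwa [MonoidHom.mem_ker, map_mul, hφ, hφ] at this
    exact hinj (by rw [eq_inv_of_mul_eq_one_left h1, inv_eq hcl.1 (hf 1)])
  have hinjφ : Function.Injective φ := (MonoidHom.ker_eq_bot_iff φ).1 hker
  have hsub : φ '' {σ : Equiv.Perm (Fin 7) | σ.IsSwap} ⊆ D := by
    rintro _ ⟨σ, hσ, rfl⟩
    obtain ⟨a, b, hab, rfl⟩ := hσ
    obtain ⟨g, hg⟩ := isConj_iff.1 (Equiv.Perm.isConj_swap (show (0 : Fin 6).castSucc ≠ (0 : Fin 6).succ by decide) hab)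
    rw [← hg, map_mul, map_mul, map_inv, hφ]
    exact class_conj hcl _ _ (hf 0)
  have hswaps : Set.ncard {σ : Equiv.Perm (Fin 7) | σ.IsSwap} = 21 := by
    have : {σ : Equiv.Perm (Fin 7) | σ.IsSwap} = {σ | σ.support.card = 2} :=
      Set.ext fun σ => Equiv.Perm.card_support_eq_two.symm
    rw [this, ← show ((Finset.univ : Finset (Fin 7)).powersetCard 2).card = 21 from rfl, ← Set.ncard_coe_finset]
    refine Set.ncard_congr (fun σ _ => σ.support) (fun σ h => by simpa using h) (fun σ τ hσ hτ e => ?_) fun s hs => ?_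
    · obtain ⟨a, b, hab, rfl⟩ := Equiv.Perm.card_support_eq_two.1 hσ
      obtain ⟨c, d, hcd, rfl⟩ := Equiv.Perm.card_support_eq_two.1 hτ
      rw [Equiv.Perm.support_swap hab, Equiv.Perm.support_swap hcd] at e
      have h1 : a ∈ ({c, d} : Finset (Fin 7)) := e ▸ Finset.mem_insert_self a _
      have h2 : b ∈ ({c, d} : Finset (Fin 7)) := e ▸ Finset.mem_insert_of_mem (Finset.mem_singleton_self b)
      simp only [Finset.mem_insert, Finset.mem_singleton] at h1 h2
      rcases h1 with rfl | rfl <;> rcases h2 with rfl | rfl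
      exacts [absurd rfl hab, rfl, Equiv.swap_comm _ _, absurd rfl hab]
    · obtain ⟨a, b, hab, rfl⟩ := Finset.card_eq_two.1 (Finset.mem_powersetCard.1 hs).2
      exact ⟨Equiv.swap a b, Equiv.Perm.card_support_eq_two.2 ⟨a, b, hab, rfl⟩, Equiv.Perm.support_swap hab⟩
  have himg : φ '' {σ : Equiv.Perm (Fin 7) | σ.IsSwap} = D :=
    Set.eq_of_subset_of_ncard_le hsub (by rw [hinjφ.injOn.ncard_image, hswaps, hcard]) (Set.toFinite _)
  have hsurj : Function.Surjective φ := by
    rw [← MonoidHom.range_eq_top, ← top_le_iff, ← hcl.2.2, Subgroup.closure_le]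
    rw [← himg]
    rintro _ ⟨σ, -, rfl⟩
    exact ⟨σ, rfl⟩
  refine ⟨(MulEquiv.ofBijective φ ⟨hinjφ, hsurj⟩).symm, ?_⟩
  conv_lhs => rw [← himg]
  rw [Set.image_image]
  convert Set.image_id _
  exact MulEquiv.symm_apply_eq _ |>.2 rfl

variable {G : Type u} [Group G] [Finite G] {D : Set G}

omit [Finite G] in
theorem point_five {d x : G} (hx : x ∈ D) (hdx : ¬ Commute d x) (hd : d ∈ D)
    (ht : HasTup D (Fam.sym 7).tup) (p : G → Finset (Fin 5))
    (h1 : ∀ a ∈ nb D d, (p a).card = 2) (h2 : Set.InjOn p (nb D d))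
    (h4 : ∀ a ∈ nb D d, ∀ b ∈ nb D d, a ≠ b → (Commute a b ↔ Disjoint (p a) (p b))) :
    ∃ k, ∀ a ∈ nb D d, Commute a x ↔ k ∉ p a := by
  classical
  set E := Polar.cperp D d x with hE
  have hEN : E ⊆ nb D d := fun a ha => ⟨ha.1, fun e => hdx (e ▸ ha.2.2), ha.2.1.symm⟩
  set T : Finset (Finset (Fin 5)) := Pair5.filter fun s => s ∉ p '' E with hT
  have hsd : Pair5 \ T = Pair5.filter fun s => s ∈ p '' E := by
    ext s
    simp only [hT, Finset.mem_sdiff, Finset.mem_filter]
    tauto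
  have hco : ((Pair5 \ T : Finset (Finset (Fin 5))) : Set (Finset (Fin 5))) = p '' E := by
    rw [hsd, Finset.coe_filter]
    exact Set.ext fun s => ⟨fun h => h.2, fun h => ⟨by
      obtain ⟨a, ha, rfl⟩ := h; exact mem_pair5.2 (h1 a (hEN ha)), h⟩⟩
  have hsdc : (Pair5 \ T).card = 6 := by
    rw [← Set.ncard_coe_finset, hco, (h2.mono hEN).ncard_image, hE, ht.apart d hd x hx hdx]
    rfl
  have hT4 : T ∈ Pair5.powersetCard 4 := by
    refine Finset.mem_powersetCard.2 ⟨Finset.filter_subset _ _, ?_⟩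
    have := Finset.card_sdiff_add_card_eq_card (show T ⊆ Pair5 from Finset.filter_subset _ _)
    rw [hsdc, show Pair5.card = 10 from rfl] at this
    omega
  obtain ⟨k, hk⟩ := star_of_inner T hT4 fun s hs => by
    obtain ⟨a, ha, rfl⟩ := (hco ▸ Finset.mem_coe.2 hs : s ∈ p '' E)
    rw [← Set.ncard_coe_finset, Finset.coe_filter]
    have h5 : {t | t ∈ Pair5 \ T ∧ Disjoint (p a) t} = p '' {y | y ∈ E ∧ y ≠ a ∧ Commute a y} := by
      ext t
      simp only [Set.mem_ofPred_eq, ← Finset.mem_coe, hco]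
      constructor
      · rintro ⟨⟨y, hy, rfl⟩, hdis⟩
        have hne : y ≠ a := fun e => by
          subst e
          rw [disjoint_self, Finset.bot_eq_empty] at hdis
          have := h1 y (hEN hy)
          rw [hdis, Finset.card_empty] at this
          omega
        exact ⟨y, ⟨hy, hne, (h4 a (hEN ha) y (hEN hy) hne.symm).2 hdis⟩, rfl⟩
      · rintro ⟨y, ⟨hy, hne, hc⟩, rfl⟩
        exact ⟨⟨y, hy, rfl⟩, (h4 a (hEN ha) y (hEN hy) hne.symm).1 hc⟩
    rw [h5, (h2.mono fun y hy => hEN hy.1).ncard_image, ht.inner d hd x hx hdx a ha]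
    rfl
  refine ⟨k, fun a ha => ?_⟩
  rw [← hk (p a) (mem_pair5.2 (h1 a ha)), hT, Finset.mem_filter, not_and, not_not]
  refine ⟨fun hc _ => ⟨a, ⟨ha.1, ha.2.2.symm, hc⟩, rfl⟩, fun h => ?_⟩
  obtain ⟨y, hy, e⟩ := h (mem_pair5.2 (h1 a ha))
  exact h2 (hEN hy) ha e ▸ hy.2.2

/-- Slice RECON, from `S₅` to `S₇`. -/
theorem recon_five : ReconStatement.{u} (.sym 5) (.sym 7) := by
  intro _ G _ _ D S hZ d hd hc _ hM ht
  classical
  obtain ⟨e, he⟩ := hM
  obtain ⟨p, h1, h2, h3, h4⟩ := SymSection.coords_of_symSection S ⟨e, he, sec_injOn S hZ hd hc⟩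
  obtain ⟨x, hx, hdx⟩ := exists_not_commute S.cls S.nontriv hd
  obtain ⟨k, hk⟩ := point_five hx hdx hd ht p h1 h2 h4
  obtain ⟨π, hπ⟩ : ∃ π : Equiv.Perm (Fin 5), π 4 = k := ⟨Equiv.swap 4 k, Equiv.swap_apply_left _ _⟩
  have hc : ∀ i : Fin 4, ∃ a ∈ nb D d, p a = ({i.castSucc, i.succ} : Finset (Fin 5)).map π.toEmbedding := fun i =>
    h3 _ (by rw [Finset.card_map, Finset.card_pair (Fin.castSucc_lt_succ (i := i)).ne])
  choose c hcn hcp using hc
  have hadj : ∀ i j : Fin 4, i ≠ j → (Disjoint ({i.castSucc, i.succ} : Finset (Fin 5)) {j.castSucc, j.succ} ↔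
      ¬ ((i : ℕ) + 1 = j ∨ (j : ℕ) + 1 = i)) := by decide
  have hcx : ∀ i : Fin 4, Commute (c i) x ↔ (i : ℕ) ≠ 3 := fun i => by
    rw [hk _ (hcn i), hcp, ← hπ]
    revert i
    simp only [Finset.mem_map_equiv, Equiv.symm_apply_apply]
    decide
  have hpair : ∀ a b : Fin 4, ({a.castSucc, a.succ} : Finset (Fin 5)) = {b.castSucc, b.succ} → a = b := by
    decide
  let f : Fin 6 → G := ![c 0, c 1, c 2, c 3, x, d]
  have hne : c 0 ≠ c 1 := fun h => by
    have h' := congrArg p h
    rw [hcp, hcp] at h'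
    exact absurd (Finset.map_injective _ h') (by decide)
  refine sym_seven_of_chain S.cls ht.card f (fun i => ?_) hne fun i j => ?_
  · fin_cases i
    exacts [(hcn 0).1, (hcn 1).1, (hcn 2).1, (hcn 3).1, hx, hd]
  have hcc : ∀ a b : Fin 4, Commute (c a) (c b) ↔ ¬ ((a : ℕ) + 1 = b ∨ (b : ℕ) + 1 = a) := fun a b => by
    rcases eq_or_ne a b with rfl | hab
    · exact iff_of_true (Commute.refl _) (by omega)
    rw [h4 _ (hcn a) _ (hcn b) (fun h => hab ?_), hcp, hcp, Finset.disjoint_map]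
    · exact hadj a b hab
    · have h' := congrArg p h
      rw [hcp, hcp] at h'
      exact hpair a b (Finset.map_injective _ h')
  have hcd : ∀ a : Fin 4, Commute (c a) d := fun a => (hcn a).2.2.symm
  have sy : ∀ {a b : G}, Commute a b ↔ Commute b a := ⟨Commute.symm, Commute.symm⟩
  have cx : ∀ a : Fin 4, Commute x (c a) ↔ (a : ℕ) ≠ 3 := fun a => sy.trans (hcx a)
  have dc : ∀ a : Fin 4, Commute d (c a) := fun a => (hcd a).symm
  fin_cases i <;> fin_cases j
  all_goals simp [f, hcc, hcd, dc, hcx, cx, Commute.refl, show ¬ Commute x d from fun h => hdx h.symm, hdx]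

end CfsgLib.ThreeTrans.Fischer
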