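import Cfsg.Agent.Lib.ThreeTrans.Classification.Section
import Cfsg.Agent.Lib.ThreeTrans.SympSection.Adapter

/-!
Fischer's classification, slice RECON, the steps out of the symplectic groups (owner: helper22).
-/

set_option autoImplicit false

namespace CfsgLib.ThreeTrans.Fischer

open Cfsg RankThree CoreNC

universe u

/-- A symplectic section gives an orthogonal group of one of two types, told apart by the class size. -/
theorem orth_of_spModel {G : Type u} [Group G] [Finite G] {D : Set G} (S : Setting D)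
    (hZ : Subgroup.center G = ⊥) {d : G} (hd : d ∈ D) (hc : CentralCores D d) {m : ℕ} (hm : 2 ≤ m)
    (hM : (Fam.sp m).Model (Sec D d) (secSet D d)) :
    ((Fam.oPlus (m + 1)).Model G D ∧ 2 * D.ncard + 2 ^ (m + 1) = 2 ^ (2 * (m + 1))) ∨
      ((Fam.oMinus (m + 1)).Model G D ∧ 2 * D.ncard = 2 ^ (2 * (m + 1)) + 2 ^ (m + 1)) := by
  obtain ⟨e, he⟩ := hM
  obtain ⟨L⟩ := SympSection.loc_of_sympSection S hd hm ⟨e, he, sec_injOn S hZ hd hc⟩
  obtain ⟨M, hM, h⟩ := SympSection.orth_of_loc_card L hZ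
  rw [Classical.Symp.finrank_sympSpace] at hM
  obtain rfl : M = m + 1 := by omega
  rcases h with ⟨hn, h⟩ | ⟨hn, h⟩
  exacts [Or.inl ⟨h, hn⟩, Or.inr ⟨h, hn⟩]

theorem ncard_oPlus {m : ℕ} (h : 1 ≤ m) :
    2 * (Fam.oPlus m).tup.v + 2 ^ m = 2 ^ (2 * m) := by
  obtain ⟨k, rfl⟩ := Nat.exists_eq_add_of_le' h
  show 2 * (2 ^ (2 * (k + 1) - 1) - 2 ^ (k + 1 - 1)) + 2 ^ (k + 1) = _
  rw [show 2 * (k + 1) - 1 = 2 * k + 1 by omega, Nat.add_sub_cancel, pow_succ 2 k,
    show 2 * (k + 1) = (2 * k + 1) + 1 by ring, pow_succ 2 (2 * k + 1)]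
  have : 2 ^ k ≤ 2 ^ (2 * k + 1) := Nat.pow_le_pow_right (by omega) (by omega)
  omega

theorem ncard_oMinus {m : ℕ} (h : 1 ≤ m) :
    2 * (Fam.oMinus m).tup.v = 2 ^ (2 * m) + 2 ^ m := by
  obtain ⟨k, rfl⟩ := Nat.exists_eq_add_of_le' h
  show 2 * (2 ^ (2 * (k + 1) - 1) + 2 ^ (k + 1 - 1)) = _
  rw [show 2 * (k + 1) - 1 = 2 * k + 1 by omega, Nat.add_sub_cancel, pow_succ 2 k,
    show 2 * (k + 1) = (2 * k + 1) + 1 by ring, pow_succ 2 (2 * k + 1)]
  omega

variable {G : Type u} [Group G] [Finite G] {D : Set G}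

theorem plus_of_spModel (S : Setting D) (hZ : Subgroup.center G = ⊥) {d : G} (hd : d ∈ D)
    (hc : CentralCores D d) {m : ℕ} (hm : 2 ≤ m) (hM : (Fam.sp m).Model (Sec D d) (secSet D d))
    (hv : D.ncard = (Fam.oPlus (m + 1)).tup.v) : (Fam.oPlus (m + 1)).Model G D := by
  rcases orth_of_spModel S hZ hd hc hm hM with ⟨h, -⟩ | ⟨-, hn⟩
  · exact h
  · have := ncard_oPlus (m := m + 1) (by omega)
    rw [← hv] at this
    have := Nat.two_pow_pos (m + 1)
    omega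

theorem minus_of_spModel (S : Setting D) (hZ : Subgroup.center G = ⊥) {d : G} (hd : d ∈ D)
    (hc : CentralCores D d) {m : ℕ} (hm : 2 ≤ m) (hM : (Fam.sp m).Model (Sec D d) (secSet D d))
    (hv : D.ncard = (Fam.oMinus (m + 1)).tup.v) : (Fam.oMinus (m + 1)).Model G D := by
  rcases orth_of_spModel S hZ hd hc hm hM with ⟨-, hn⟩ | ⟨h, -⟩
  · have := ncard_oMinus (m := m + 1) (by omega)
    rw [← hv] at this
    have := Nat.two_pow_pos (m + 1)
    omega
  · exact h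

/-- Slice RECON, from `Sp(4,2)` to `S₈`. -/
theorem recon_four_plus (hA : AliasStatement.{u}) : ReconStatement.{u} (.sp 2) (.sym 8) := by
  intro _ G _ _ D S hZ d hd hc _ hM ht
  exact (hA G D).1.1 (plus_of_spModel S hZ hd hc le_rfl hM (by rw [ht.card]; decide))

/-- Slice RECON, from `Sp(4,2)` to `O⁻(6,2)`. -/
theorem recon_four_minus : ReconStatement.{u} (.sp 2) (.oMinus 3) := by
  intro _ G _ _ D S hZ d hd hc _ hM ht
  exact minus_of_spModel S hZ hd hc le_rfl hM ht.card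

/-- Slice RECON, from `Sp(2m,2)` to `O⁺(2m+2,2)`. -/
theorem recon_plus {m : ℕ} (hm : 2 ≤ m) : ReconStatement.{u} (.sp m) (.oPlus (m + 1)) := by
  intro _ G _ _ D S hZ d hd hc _ hM ht
  exact plus_of_spModel S hZ hd hc hm hM ht.card

/-- Slice RECON, from `Sp(2m,2)` to `O⁻(2m+2,2)`. -/
theorem recon_minus {m : ℕ} (hm : 2 ≤ m) : ReconStatement.{u} (.sp m) (.oMinus (m + 1)) := by
  intro _ G _ _ D S hZ d hd hc _ hM ht
  exact minus_of_spModel S hZ hd hc hm hM ht.card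

end CfsgLib.ThreeTrans.Fischer
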