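import Cfsg.Agent.Lib.ThreeTrans.Classification.Section
import Cfsg.Agent.Lib.ThreeTrans.SymSection.Adapter

/-!
Fischer's classification, slice RECON, the step from a symmetric group to the one on two more points
(owner: helper22).
-/

set_option autoImplicit false

namespace CfsgLib.ThreeTrans.Fischer

open Cfsg RankThree CoreNC

universe u

/-- Slice RECON, from `Sₙ` to `Sₙ₊₂`. -/
theorem recon_symm {n : ℕ} (hn : 7 ≤ n) : ReconStatement.{u} (.sym n) (.sym (n + 2)) := by
  intro _ G _ _ D S hZ d hd hc _ hM _
  obtain ⟨e, he⟩ := hM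
  exact SymSection.sym_add_two_of_loc (SymSection.loc_of_symSection S hd hn ⟨e, he, sec_injOn S hZ hd hc⟩).some hZ

end CfsgLib.ThreeTrans.Fischer
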