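import Cfsg.Agent.Lib.ThreeTrans.Classification.Induction
import Cfsg.Agent.Lib.ThreeTrans.Classification.Pair
import Cfsg.Agent.Lib.ThreeTrans.Classification.Pol
import Cfsg.Agent.Lib.ThreeTrans.Classification.Five
import Cfsg.Agent.Lib.ThreeTrans.Classification.ReconSp
import Cfsg.Agent.Lib.ThreeTrans.Classification.ReconSym
import Cfsg.Agent.Lib.ThreeTrans.Classification.ReconFive
import Cfsg.Agent.Lib.ThreeTrans.Classification.Alias
import Cfsg.Agent.Lib.ThreeTrans.Classification.ReconM.Main
import Cfsg.Agent.Lib.ThreeTrans.Classification.Kill.Main
import Cfsg.Agent.Lib.ThreeTrans.Classification.TupInj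
import Cfsg.Agent.Lib.ThreeTrans.Refl3.Recon

/-!
Fischer's classification assembled from the finished slices; the others are hypotheses until they land
(owner: helper7, slice WIRE).
-/

set_option autoImplicit false

namespace CfsgLib.ThreeTrans.Fischer

universe u

/-- The classification from the slices ARITH and the two REFL base steps. -/
theorem mainStatement_of (hA : ArithStatement)
    (h6p : ReconStatement.{u} (.oMinus 3) (.refl 6 true)) (h6m : ReconStatement.{u} (.unit 4) (.refl 6 false)) :
    MainStatement.{u} :=
  main polStatement fiveStatement sectionStatement pairStatement hA tupInjStatement killStatement fun f g hs => by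
    cases hs with
    | five => exact recon_five
    | symm h => exact recon_symm h
    | four_plus => exact recon_four_plus aliasStatement
    | four_minus => exact recon_four_minus
    | plus h => exact recon_plus (le_trans (by decide) h)
    | minus h => exact recon_minus (le_trans (by decide) h)
    | six_plus => exact h6p
    | six_minus => exact h6m
    | up h => exact Refl3.recon_up h _
    | twentyTwo => exact MType.recon_twentyTwo
    | twentyThree => exact MType.recon_twentyThree
    | twentyFour => exact MType.recon_twentyFour

end CfsgLib.ThreeTrans.Fischer
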