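import Cfsg.Agent.Lib.ThreeTrans.ReflectionsF3Prim
import Cfsg.Agent.Lib.Classical.Quad.POmega
import Cfsg.Agent.Lib.Classical.Quad.PlusMinusType

/-!
When a projective reflection group over three elements, or an orthogonal group over two elements, is
perfect (owner: helper7, slice WIRE of the Fischer classification).
-/

set_option autoImplicit false

namespace CfsgLib.ThreeTrans.Fischer

open Cfsg CfsgLib.Classical CfsgLib.Classical.Quad
open QuadraticMap (polar polarBilin)
open scoped commutatorElement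

universe u

/-- A perfect central quotient of a subgroup containing the derived group is a quotient of the derived group. -/
theorem surjective_of_perfect_quotient {H : Type*} [Group H] (R : Subgroup H) (hle : commutator H ≤ R)
    (hperf : commutator (↥R ⧸ Subgroup.center ↥R) = ⊤) :
    Function.Surjective ((QuotientGroup.mk' (Subgroup.center ↥R)).comp (Subgroup.inclusion hle)) := by
  rw [← MonoidHom.range_eq_top, eq_top_iff, ← hperf, commutator_def, Subgroup.commutator_le]
  intro x _ y _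
  obtain ⟨a, rfl⟩ := QuotientGroup.mk'_surjective _ x
  obtain ⟨b, rfl⟩ := QuotientGroup.mk'_surjective _ y
  refine ⟨⟨⁅(a : H), (b : H)⁆, Subgroup.commutator_mem_commutator (Subgroup.mem_top _) (Subgroup.mem_top _)⟩, ?_⟩
  rw [← map_commutatorElement]
  rfl

theorem neg_one_ne_units_three : (-1 : (ZMod 3)ˣ) ≠ 1 := by decide

theorem aniso_two : ∀ z₁ z₂ : ZMod 2, z₁ ^ 2 + 1 * z₁ * z₂ + 1 * z₂ ^ 2 = 0 → z₁ = 0 ∧ z₂ = 0 := by
  decide

theorem perfect_of_simple {G : Type*} [Group G] [IsSimpleGroup G] (hna : ∃ x y : G, x * y ≠ y * x) :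
    commutator G = ⊤ := by
  refine (Subgroup.Normal.eq_bot_or_eq_top inferInstance).resolve_left fun h => ?_
  obtain ⟨x, y, hxy⟩ := hna
  have := Subgroup.commutator_mem_commutator (Subgroup.mem_top x) (Subgroup.mem_top y)
  rw [← commutator_def, h, Subgroup.mem_bot] at this
  exact hxy (commutatorElement_eq_one_iff_mul_comm.1 this)

theorem perfect_congr {G H : Type*} [Group G] [Group H] (e : G ≃* H) (h : commutator G = ⊤) :
    commutator H = ⊤ := by
  have := congrArg (Subgroup.map e.toMonoidHom) h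
  rw [commutator_def, Subgroup.map_commutator, Subgroup.map_top_of_surjective _ e.surjective] at this
  exact this

/-- An orthogonal group over two elements is not perfect. -/
theorem orth_two_not_perfect {ι : Type} [Fintype ι] [DecidableEq ι]
    (Q : QuadraticForm (ZMod 2) (ι → ZMod 2)) (hQ : (polarBilin Q).Nondegenerate)
    (hn : 5 ≤ Fintype.card ι) : commutator ↥(Cfsg.isometryGroup (ZMod 2) (⇑Q)) ≠ ⊤ := by
  haveI : Fact (Nat.Prime 2) := ⟨Nat.prime_two⟩
  intro h
  have h1 := index_Omega hQ (Or.inr (by omega)) (by omega : 2 ≤ Fintype.card ι)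
  rw [Cfsg.Omega, h, Subgroup.index_top, card_sqClass_of_two_eq_zero (by decide)] at h1
  omega

section Three

variable {n : ℕ} {Q : QuadraticForm (ZMod 3) (Fin n → ZMod 3)} (hQ : (polarBilin Q).Nondegenerate)
  {c : ZMod 3} (hc : c ≠ 0)

include hQ hc

/-- In even dimension the projective reflection group is not perfect. -/
theorem refl_even_not_perfect (hn : 5 ≤ n) (heven : Even n) :
    commutator (↥(Cfsg.reflectionSubgroup (⇑Q) c) ⧸ Subgroup.center ↥(Cfsg.reflectionSubgroup (⇑Q) c)) ≠ ⊤ := by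
  intro hperf
  haveI : Fact (Nat.Prime 3) := ⟨Nat.prime_three⟩
  set H := Cfsg.isometryGroup (ZMod 3) (⇑Q)
  set R := Cfsg.reflectionSubgroup (⇑Q) c with hR
  haveI : R.Normal := Subgroup.normal_of_index_eq_two (ReflectionsF3.index_eq_two hn hQ hc)
  have hle : commutator ↥H ≤ R := commutator_le_of_index_le_two (ReflectionsF3.index_eq_two hn hQ hc).le
  have hfr : 5 ≤ Module.finrank (ZMod 3) (Fin n → ZMod 3) := by rwa [Module.finrank_pi, Fintype.card_fin]
  obtain ⟨d, ⟨v, hv, hdv⟩, -⟩ := (ReflectionsF3.threeTranspositionClass (by omega) hQ hc).2.1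
  obtain ⟨x, hx⟩ := surjective_of_perfect_quotient R hle hperf (QuotientGroup.mk' _ d)
  set δ : ↥H →* (ZMod 3)ˣ := Matrix.GeneralLinearGroup.det.comp H.subtype with hδ
  have hδd : δ ((d : ↥R) : ↥H) = -1 := by
    refine Units.ext ?_
    show Matrix.det (((((d : ↥R) : ↥H) : GL (Fin n) (ZMod 3)) : Matrix (Fin n) (Fin n) (ZMod 3))) = _
    rw [hdv, det_reflectionMatrix Q (by rw [hv]; exact hc), Units.val_neg, Units.val_one]
  have hδx : δ (x : ↥H) = 1 := Abelianization.commutator_subset_ker δ x.2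
  -- the central factor has determinant one
  obtain ⟨z, hz, hzd⟩ : ∃ z ∈ Subgroup.center ↥R, d = Subgroup.inclusion hle x * z :=
    ⟨(Subgroup.inclusion hle x)⁻¹ * d, QuotientGroup.eq.1 hx, (mul_inv_cancel_left _ _).symm⟩
  obtain ⟨a, ha, hscal⟩ : ∃ a : ZMod 3, a * a = 1 ∧
      ∀ w, ((oEquiv Q (z : ↥H)) : (Fin n → ZMod 3) ≃ₗ[ZMod 3] (Fin n → ZMod 3)) w = a • w := by
    refine scalar_of_fix_singular_lines hQ hfr fun w hw => ?_
    by_cases hw0 : w = 0
    · exact ⟨0, by rw [hw0, map_zero, zero_smul]⟩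
    refine apply_mem_line_of_comm hQ hfr hw hw0 fun b hb => ?_
    obtain ⟨g, hg, hge⟩ : ∃ g ∈ Cfsg.Omega (ZMod 3) (⇑Q), oEquiv Q g = eich hQ hw hb := by
      obtain ⟨g, hg⟩ := (omegaEquiv Q).surjective ⟨_, eich_mem_commutator hQ hfr hw hb⟩
      exact ⟨g, g.2, congrArg Subtype.val hg⟩
    rw [← hge, ← map_mul, ← map_mul]
    exact congrArg _ (congrArg Subtype.val (Subgroup.mem_center_iff.1 hz ⟨g, hle hg⟩).symm)
  have hM : (((z : ↥H) : GL (Fin n) (ZMod 3)) : Matrix (Fin n) (Fin n) (ZMod 3)) = a • (1 : Matrix (Fin n) (Fin n) (ZMod 3)) := by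
    refine Matrix.toLin'.injective (LinearMap.ext fun w => ?_)
    rw [Matrix.toLin'_apply, Matrix.toLin'_apply, ← oEquiv_apply, hscal, Matrix.smul_mulVec, Matrix.one_mulVec]
  have hδz : δ (z : ↥H) = 1 := by
    refine Units.ext ?_
    show Matrix.det (((z : ↥H) : GL (Fin n) (ZMod 3)) : Matrix (Fin n) (Fin n) (ZMod 3)) = 1
    obtain ⟨k, rfl⟩ := heven
    rw [hM, Matrix.det_smul, Matrix.det_one, mul_one, Fintype.card_fin, pow_add, ← mul_pow, ha, one_pow]
  have := congrArg (fun y : ↥R => δ (y : ↥H)) hzd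
  simp only [Subgroup.coe_mul, map_mul, Subgroup.coe_inclusion, hδd, hδx, hδz, mul_one] at this
  exact neg_one_ne_units_three this

/-- In odd dimension a perfect projective reflection group is the projective derived group of the orthogonal group. -/
theorem refl_odd_pOmega {m : ℕ} (hm : n = 2 * m + 1) (hn : 5 ≤ n)
    (hperf : commutator (↥(Cfsg.reflectionSubgroup (⇑Q) c) ⧸ Subgroup.center ↥(Cfsg.reflectionSubgroup (⇑Q) c)) = ⊤) :
    Nonempty ((↥(Cfsg.reflectionSubgroup (⇑Q) c) ⧸ Subgroup.center ↥(Cfsg.reflectionSubgroup (⇑Q) c)) ≃*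
      Cfsg.POmega (ZMod 3) (Cfsg.quadFormOdd m (ZMod 3))) := by
  haveI : Fact (Nat.Prime 3) := ⟨Nat.prime_three⟩
  set H := Cfsg.isometryGroup (ZMod 3) (⇑Q)
  set R := Cfsg.reflectionSubgroup (⇑Q) c with hR
  haveI : R.Normal := Subgroup.normal_of_index_eq_two (ReflectionsF3.index_eq_two hn hQ hc)
  have hle : commutator ↥H ≤ R := commutator_le_of_index_le_two (ReflectionsF3.index_eq_two hn hQ hc).le
  have hfr : 5 ≤ Module.finrank (ZMod 3) (Fin n → ZMod 3) := by rwa [Module.finrank_pi, Fintype.card_fin]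
  set φ := (QuotientGroup.mk' (Subgroup.center ↥R)).comp (Subgroup.inclusion hle) with hφ
  have hker : φ.ker = Subgroup.center ↥(commutator ↥H) := by
    ext x
    rw [MonoidHom.mem_ker, hφ, MonoidHom.comp_apply, QuotientGroup.mk'_apply, QuotientGroup.eq_one_iff]
    refine ⟨fun h => Subgroup.mem_center_iff.2 fun y => ?_, fun h => Subgroup.mem_center_iff.2 fun y => ?_⟩
    · exact Subgroup.inclusion_injective hle
        (by rw [map_mul, map_mul]; exact Subgroup.mem_center_iff.1 h _)
    · have h' : omegaEquiv Q x ∈ Subgroup.center (commutator (OQ Q)) := by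
        rw [← map_center_eq (omegaEquiv Q)]
        exact Subgroup.mem_map_of_mem _ h
      obtain ⟨a, -, ha⟩ := (center_Omega_iff hQ hfr).1 h'
      refine Subtype.ext ((oEquiv Q).injective (Subtype.ext (LinearEquiv.ext fun w => ?_)))
      have ha' : ∀ w, ((oEquiv Q (x : ↥H)) : (Fin n → ZMod 3) ≃ₗ[ZMod 3] (Fin n → ZMod 3)) w = a • w := ha
      show (oEquiv Q ((y : ↥H) * (x : ↥H))).1 w = (oEquiv Q ((x : ↥H) * (y : ↥H))).1 w
      rw [map_mul, map_mul, Subgroup.coe_mul, Subgroup.coe_mul, LinearEquiv.mul_apply, LinearEquiv.mul_apply,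
        ha', ha', map_smul]
  let e₁ : Cfsg.POmega (ZMod 3) (⇑Q) ≃* ↥R ⧸ Subgroup.center ↥R :=
    (QuotientGroup.quotientMulEquivOfEq hker.symm).trans
      (QuotientGroup.quotientKerEquivOfSurjective φ (surjective_of_perfect_quotient R hle hperf))
  -- a similitude to the standard form
  have h2 : (2 : ZMod 3) ≠ 0 := ReflectionsF3.two_ne
  set B := polarBilin (qOdd m (ZMod 3)) with hB
  have hBn : B.Nondegenerate := qOdd_nondeg h2 m
  have hBs : ∀ a : ZMod 3, LinearMap.BilinForm.IsSymm (a • B : LinearMap.BilinForm (ZMod 3) _) := fun a =>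
    ⟨fun u v => by simp [hB, QuadraticMap.polar_comm]⟩
  set b := Pi.basisFun (ZMod 3) (Fin n)
  set b' := Pi.basisFun (ZMod 3) (Unit ⊕ (Fin m ⊕ Fin m))
  set p := (LinearMap.BilinForm.toMatrix b (polarBilin Q)).det
  set p' := (LinearMap.BilinForm.toMatrix b' B).det
  set a := p * p' with ha
  have hp : p ≠ 0 := (LinearMap.BilinForm.nondegenerate_iff_det_ne_zero b).1 hQ
  have hp' : p' ≠ 0 := (LinearMap.BilinForm.nondegenerate_iff_det_ne_zero b').1 hBn
  have ha0 : a ≠ 0 := mul_ne_zero hp hp'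
  have ha2 : a * a = 1 := by
    rcases ReflectionsF3.z3_cases a with h | h | h
    · exact absurd h ha0
    · rw [h]; rfl
    · rw [h]; rfl
  have hdet : (LinearMap.BilinForm.toMatrix b' (a • B : LinearMap.BilinForm (ZMod 3) _)).det = a * p' := by
    rw [map_smul, Matrix.det_smul]
    simp only [Fintype.card_sum, Fintype.card_unit, Fintype.card_fin]
    rw [show 1 + (m + m) = 2 * m + 1 by omega, pow_succ, pow_mul, pow_two, ha2, one_pow, one_mul]
  have hBn' : LinearMap.BilinForm.Nondegenerate (a • B : LinearMap.BilinForm (ZMod 3) _) :=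
    (LinearMap.BilinForm.nondegenerate_iff_det_ne_zero b').2 (hdet ▸ mul_ne_zero ha0 hp')
  obtain ⟨e, he⟩ := exists_isometry_of_det (B := polarBilin Q)
    (B' := (a • B : LinearMap.BilinForm (ZMod 3) _)) h2 ⟨fun u v => by simp [QuadraticMap.polar_comm]⟩ hQ
    (hBs a) hBn' b b' (n := 2 * m) (by rw [Module.finrank_pi, Fintype.card_fin, hm])
    (by rw [Module.finrank_pi]; simp; omega)
    ⟨a, by rw [hdet, show p * (a * p') = a * (p * p') by ring]⟩
  have hq : ∀ v, qOdd m (ZMod 3) (e v) = a * Q v := fun v => by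
    have h := he v v
    simp only [LinearMap.smul_apply, smul_eq_mul, hB, QuadraticMap.polarBilin_apply_apply, polar_self'] at h
    have h' : a * qOdd m (ZMod 3) (e v) = Q v := mul_left_cancel₀ h2 (by linear_combination h)
    rw [← h', ← mul_assoc, ha2, one_mul]
  let e₂ : OQ Q ≃* OQ (qOdd m (ZMod 3)) :=
    isoCongr e fun u v u' v' => by
      show qOdd m (ZMod 3) (e u) = qOdd m (ZMod 3) (e u') ↔ _
      rw [hq, hq]
      exact ⟨fun h => mul_left_cancel₀ ha0 h, fun h => congrArg (a * ·) h⟩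
  have hcm : (commutator (OQ Q)).map e₂.toMonoidHom = commutator (OQ (qOdd m (ZMod 3))) := by
    rw [commutator_def, commutator_def, Subgroup.map_commutator, Subgroup.map_top_of_surjective _ e₂.surjective]
  let e₃ : ↥(commutator (OQ Q)) ≃* ↥(commutator (OQ (qOdd m (ZMod 3)))) :=
    (e₂.subgroupMap _).trans (MulEquiv.subgroupCongr hcm)
  rw [← coe_qOdd m (ZMod 3)]
  exact ⟨e₁.symm.trans ((pOmegaEquiv Q).trans
    ((QuotientGroup.congr _ _ e₃ (map_center_eq e₃)).trans (pOmegaEquiv (qOdd m (ZMod 3))).symm))⟩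

end Three

end CfsgLib.ThreeTrans.Fischer
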