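import Cfsg.Agent.Lib.ThreeTrans.Classification.Wire
import Cfsg.Agent.Lib.ThreeTrans.Classification.ReflSimple
import Cfsg.Agent.Lib.Recog.FiM22.ReadOff
import Cfsg.Agent.Lib.Recog.FiM23.ReadOff
import Cfsg.Agent.Lib.Recog.FiM24.ReadOff

/-!
The simple 3-transposition groups (S0480) from the classification (owner: helper7, slice WIRE).
-/

set_option autoImplicit false

namespace CfsgLib.ThreeTrans.Fischer

open Cfsg RankThree CfsgLib.Classical.Quad

universe u

variable {G : Type u} [Group G] [Finite G]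

theorem sign_ne_top (n : ℕ) (hn : 2 ≤ n) : commutator (Equiv.Perm (Fin n)) ≠ ⊤ := by
  intro h
  let i : Fin n := ⟨0, by omega⟩
  let j : Fin n := ⟨1, by omega⟩
  have hm : Equiv.swap i j ∈ commutator (Equiv.Perm (Fin n)) := h ▸ Subgroup.mem_top _
  have := Abelianization.commutator_subset_ker (Equiv.Perm.sign : Equiv.Perm (Fin n) →* ℤˣ) hm
  rw [MonoidHom.mem_ker, Equiv.Perm.sign_swap (by simp [i, j, Fin.ext_iff])] at this
  exact absurd this (by decide)

theorem simple_cases (hMain : MainStatement.{u}) [IsSimpleGroup G] (hna : ∃ x y : G, x * y ≠ y * x)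
    {D : Set G} (hD : IsThreeTranspositionClass D) :
    (∃ n : ℕ, Nonempty (G ≃* Matrix.symplecticGroup (Fin n) (ZMod 2))) ∨ (∃ (F : Type) (_ : Field F) (_ : Fintype F) (n : ℕ), Fintype.card F = 4 ∧ Nonempty (G ≃* Cfsg.PSU n F 2)) ∨ (∃ m : ℕ, Nonempty (G ≃* Cfsg.POmega (ZMod 3) (Cfsg.quadFormOdd m (ZMod 3)))) ∨ Cfsg.IsFi22 G ∨ Cfsg.IsFi23 G := by
  have hperf := perfect_of_simple hna
  let eG : commutator G ≃* G := (MulEquiv.subgroupCongr hperf).trans Subgroup.topEquiv
  haveI : IsSimpleGroup (commutator G) := MulEquiv.isSimpleGroup eG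
  have hna' : ∃ x y : commutator G, x * y ≠ y * x := by
    obtain ⟨x, y, hxy⟩ := hna
    exact ⟨eG.symm x, eG.symm y, fun h => hxy (by simpa using congrArg eG h)⟩
  have hZ : Subgroup.center G = ⊥ := by
    refine (Subgroup.Normal.eq_bot_or_eq_top inferInstance).resolve_right fun h => ?_
    obtain ⟨x, y, hxy⟩ := hna
    exact hxy (Subgroup.mem_center_iff.1 (h ▸ Subgroup.mem_top y : y ∈ Subgroup.center G) x)
  have S := setting_of_simple hD hna'
  obtain ⟨f, hOK, hmod, -⟩ := hMain G D S hZ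
  cases f with
  | sym n =>
    obtain ⟨e, -⟩ := hmod
    exact absurd (perfect_congr e hperf) (sign_ne_top n (by rcases hOK with rfl | h <;> omega))
  | sp m =>
    obtain ⟨e, -⟩ := hmod
    exact Or.inl ⟨m, ⟨e⟩⟩
  | unit n =>
    obtain ⟨F, i1, i2, hF, e, -⟩ := hmod
    exact Or.inr (Or.inl ⟨F, i1, i2, n, hF, ⟨e⟩⟩)
  | oPlus m =>
    obtain ⟨e, -⟩ := hmod
    have hm : 4 ≤ m := hOK
    haveI : Fact (Nat.Prime 2) := ⟨Nat.prime_two⟩
    have h := orth_two_not_perfect (qPlus m (ZMod 2)) (qPlus_nondeg m) (by simp; omega)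
    rw [coe_qPlus] at h
    exact absurd (perfect_congr e hperf) h
  | oMinus m =>
    obtain ⟨e, -⟩ := hmod
    have hm : 3 ≤ m := hOK
    haveI : Fact (Nat.Prime 2) := ⟨Nat.prime_two⟩
    have h := orth_two_not_perfect (qMinus (m - 1) (ZMod 2) 1 1) (qMinus_nondeg aniso_two (m - 1))
      (by simp; omega)
    rw [coe_qMinus] at h
    exact absurd (perfect_congr e hperf) h
  | refl N δ =>
    obtain ⟨Q, hQ, c, hc, -, e, -⟩ := hmod
    have hN : 6 ≤ N := hOK
    have hp := perfect_congr e hperf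
    obtain ⟨k, rfl | rfl⟩ := Nat.even_or_odd' N
    · exact absurd hp (refl_even_not_perfect hQ hc (by omega) ⟨k, two_mul k⟩)
    · obtain ⟨e'⟩ := refl_odd_pOmega hQ hc rfl (by omega) hp
      exact Or.inr (Or.inr (Or.inl ⟨k, ⟨e.trans e'⟩⟩))
  | m22 =>
    exact Or.inr (Or.inr (Or.inr (Or.inl ⟨‹IsSimpleGroup G›,
      CfsgLib.Recog.FiM22.card_group S.grp S.prim hmod⟩)))
  | m23 =>
    refine Or.inr (Or.inr (Or.inr (Or.inr ⟨‹IsSimpleGroup G›, ?_⟩)))
    rw [CfsgLib.Recog.FiM23.card_group S.grp S.prim hmod]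
  | m24 =>
    exfalso
    have hi := CfsgLib.Recog.FiM24.layer_index24 S.grp S.prim hmod
    haveI : (Cfsg.layer G).Normal := CfsgLib.Components.layer_normal
    rcases Subgroup.Normal.eq_bot_or_eq_top (inferInstance : (Cfsg.layer G).Normal) with h | h
    · rw [h, Subgroup.index_bot] at hi
      obtain ⟨x, y, hxy⟩ := hna
      haveI : Fact (Nat.Prime 2) := ⟨Nat.prime_two⟩
      haveI := isCyclic_of_prime_card hi
      exact hxy ((IsCyclic.commGroup (α := G)).mul_comm x y)
    · rw [h, Subgroup.index_top] at hi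
      omega

end CfsgLib.ThreeTrans.Fischer
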