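import Cfsg.Agent.Lib.ThreeTrans.Classification.Assemble
import Cfsg.Agent.Lib.ThreeTrans.Classification.Arith
import Cfsg.Agent.Lib.ThreeTrans.Classification.WireSimple
import Cfsg.Agent.Lib.ThreeTrans.Refl3.ReconSix

/-!
Fischer's classification of 3-transposition groups, all slices plugged in.
-/

set_option autoImplicit false

namespace CfsgLib.ThreeTrans.Fischer

universe u

/-- The classification. -/
theorem mainStatement : MainStatement.{u} :=
  mainStatement_of arithStatement Refl3.recon_six_plus Refl3.recon_six_minus

end CfsgLib.ThreeTrans.Fischer
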