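import Cfsg.Agent.Lib.ThreeTrans.Classification.Section
import Cfsg.Prelude.Def_Sporadic

/-!
Fischer's theorem in the spellings of S5369 and S5368, from the classification (owner: helper7,
slice WIRE of the Fischer classification).
-/

set_option autoImplicit false

namespace CfsgLib.ThreeTrans.Fischer

open Cfsg RankThree
open CfsgLib.ThreeTrans.CoreNC (nb)
open scoped commutatorElement

universe u

variable {G : Type u} [Group G] [Finite G] {D : Set G}

/-- A primitive group of width at least two is in the setting. -/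
theorem setting_of_primitive (hD : IsThreeTranspositionGroup D) (hprim : IsPrimitiveUnderConj D)
    (hw : ∃ a ∈ D, ∃ b ∈ D, a ≠ b ∧ Commute a b) : Setting D :=
  ⟨class_of_primitive hD hprim, hprim.2.1, hw, hprim, pCore_le_center hD hprim hw Nat.prime_two⟩

/-- The section has commuting pairs, so the member is not the symmetric group of degree five. -/
theorem tup_l_ne_zero (S : Setting D) (hZ : Subgroup.center G = ⊥) {d : G} (hd : d ∈ D)
    (hc : CentralCores D d) {t : Tup} (ht : HasTup D t) : t.l ≠ 0 := by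
  obtain ⟨_, ⟨a, ha, rfl⟩, _, ⟨b, hb, rfl⟩, hne, hab⟩ := secSet_width S hZ hd hc
  have hab' : Commute (a : G) (b : G) := (sec_commute S hZ hd hc ha hb).1 hab
  have hne' : (b : G) ≠ a := fun e => hne (congrArg _ (Subtype.ext e.symm))
  intro h0
  have h := ht.common d hd a ha.1 ha.2.1.symm ha.2.2
  rw [h0, Set.ncard_eq_zero (Set.toFinite _)] at h
  exact Set.eq_empty_iff_forall_notMem.1 h (b : G) ⟨hb, hb.1, hne', hab'⟩

/-- S5369 from the classification. -/
theorem primitive_cases (hMain : MainStatement.{u}) (hD : IsThreeTranspositionGroup D)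
    (hprim : IsPrimitiveUnderConj D) (hZ : Subgroup.center G = ⊥) {d : G} (hd : d ∈ D)
    (hw : ∃ b ∈ D, b ≠ d ∧ Commute d b) (hc : CentralCores D d) :
    (∃ n : ℕ, 7 ≤ n ∧ ∃ e : G ≃* Equiv.Perm (Fin n), e '' D = {σ : Equiv.Perm (Fin n) | σ.IsSwap}) ∨
    ((∃ m : ℕ, 3 ≤ m ∧ ∃ e : G ≃* ↥(isometryGroup (ZMod 2) (quadFormPlus m (ZMod 2))), e '' D = {g : ↥(isometryGroup (ZMod 2) (quadFormPlus m (ZMod 2))) | (((g : GL (Fin m ⊕ Fin m) (ZMod 2)) : Matrix (Fin m ⊕ Fin m) (Fin m ⊕ Fin m) (ZMod 2)) - 1).rank = 1}) ∨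
     (∃ m : ℕ, 2 ≤ m ∧ ∃ e : G ≃* ↥(isometryGroup (ZMod 2) (quadFormMinus m (ZMod 2) 1 1)), e '' D = {g : ↥(isometryGroup (ZMod 2) (quadFormMinus m (ZMod 2) 1 1)) | (((g : GL ((Fin m ⊕ Fin m) ⊕ Fin 2) (ZMod 2)) : Matrix ((Fin m ⊕ Fin m) ⊕ Fin 2) ((Fin m ⊕ Fin m) ⊕ Fin 2) (ZMod 2)) - 1).rank = 1})) ∨
    (∃ n : ℕ, 5 ≤ n ∧ ∃ Q : QuadraticForm (ZMod 3) (Fin n → ZMod 3), (QuadraticMap.polarBilin Q).Nondegenerate ∧ ∃ c : ZMod 3, c ≠ 0 ∧ ∃ e : G ≃* ↥(reflectionSubgroup (⇑Q) c) ⧸ Subgroup.center ↥(reflectionSubgroup (⇑Q) c), e '' D = (QuotientGroup.mk : ↥(reflectionSubgroup (⇑Q) c) → _) '' {g : ↥(reflectionSubgroup (⇑Q) c) | (g : ↥(isometryGroup (ZMod 3) (⇑Q))) ∈ reflectionsOfNorm (⇑Q) c}) ∨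
    (IsOfTypeM22 G D ∨ IsOfTypeM23 G D ∨ IsOfTypeM24 G D) := by
  obtain ⟨b, hb, hbd, hdb⟩ := hw
  have S := setting_of_primitive hD hprim ⟨d, hd, b, hb, hbd.symm, hdb⟩
  obtain ⟨f, hOK, hmod, ht, -, hpol⟩ := hMain G D S hZ
  have hnp : ¬ f.IsPol := fun h => not_pol S hd hc (hpol.1 h)
  cases f with
  | sym n =>
    rcases hOK with rfl | hn
    · exact absurd (by decide) (tup_l_ne_zero S hZ hd hc ht)
    · exact Or.inl ⟨n, hn, hmod⟩
  | sp m => exact absurd trivial hnp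
  | unit n => exact absurd trivial hnp
  | oPlus m =>
    obtain ⟨e, he⟩ := hmod
    exact Or.inr (Or.inl (Or.inl ⟨m, le_trans (by decide) hOK, e, he⟩))
  | oMinus m =>
    obtain ⟨e, he⟩ := hmod
    exact Or.inr (Or.inl (Or.inr ⟨m - 1, Nat.le_sub_one_of_lt hOK, e, he⟩))
  | refl N δ =>
    obtain ⟨Q, hQ, c, hc', -, e, he⟩ := hmod
    exact Or.inr (Or.inr (Or.inl ⟨N, le_trans (by decide) hOK, Q, hQ, c, hc', e, he⟩))
  | m22 => exact Or.inr (Or.inr (Or.inr (Or.inl hmod)))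
  | m23 => exact Or.inr (Or.inr (Or.inr (Or.inr (Or.inl hmod))))
  | m24 => exact Or.inr (Or.inr (Or.inr (Or.inr (Or.inr hmod))))

omit [Finite G] in
theorem one_notMem_set (hD : IsThreeTranspositionClass D) : (1 : G) ∉ D := fun h => by
  have := hD.1.1 1 h
  rw [orderOf_one] at this
  exact absurd this (by decide)

theorem swap_perm_three : ∀ σ : Equiv.Perm (Fin 3), σ ≠ 1 → σ * σ = 1 → σ.IsSwap := by
  intro σ h1 h2
  have key : ∀ τ : Equiv.Perm (Fin 3), τ ≠ 1 → τ * τ = 1 →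
      τ = Equiv.swap 0 1 ∨ τ = Equiv.swap 0 2 ∨ τ = Equiv.swap 1 2 := by decide
  rcases key σ h1 h2 with rfl | rfl | rfl
  exacts [⟨0, 1, by decide, rfl⟩, ⟨0, 2, by decide, rfl⟩, ⟨1, 2, by decide, rfl⟩]

theorem swaps_three_subset : ({σ : Equiv.Perm (Fin 3) | σ.IsSwap}) ⊆
    ↑({Equiv.swap 0 1, Equiv.swap 0 2, Equiv.swap 1 2} : Finset (Equiv.Perm (Fin 3))) := by
  rintro σ ⟨i, j, hij, rfl⟩
  revert i j
  decide

/-- A derived group of prime order leaves the symmetric group of degree three. -/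
theorem perm_three_of_comm (hD : IsThreeTranspositionClass D) (hZ : Subgroup.center G = ⊥)
    [IsSimpleGroup (commutator G)] (hab : ∀ x y : commutator G, x * y = y * x) :
    ∃ e : G ≃* Equiv.Perm (Fin 3), e '' D = {σ : Equiv.Perm (Fin 3) | σ.IsSwap} := by
  letI : CommGroup (commutator G) := { (inferInstance : Group (commutator G)) with mul_comm := hab }
  have hp : (Nat.card (commutator G)).Prime := IsSimpleGroup.prime_card
  have hdiff : ∀ a ∈ D, ∀ x ∈ D, a * x ∈ commutator G := by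
    intro a ha x hx
    obtain ⟨g, rfl⟩ := class_trans hD ha hx
    rw [show a * (g * a * g⁻¹) = ⁅a, g⁆ by
      rw [commutatorElement_def, inv_eq hD.1 ha]; simp only [mul_assoc]]
    exact Subgroup.commutator_mem_commutator (Subgroup.mem_top a) (Subgroup.mem_top g)
  obtain ⟨d, hd, -⟩ := hD.2.1
  -- two members that do not commute
  obtain ⟨a, ha, b, hb, hnc⟩ : ∃ a ∈ D, ∃ b ∈ D, ¬ Commute a b := by
    by_contra h
    push Not at h
    have hcen : d ∈ Subgroup.center G := central_of_commute_class hD fun x hx => (h d hd x hx).symm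
    rw [hZ, Subgroup.mem_bot] at hcen
    exact one_notMem_set hD (hcen ▸ hd)
  have h3 : Nat.card (commutator G) = 3 := by
    refine ((Nat.prime_dvd_prime_iff_eq Nat.prime_three hp).1 ?_).symm
    have := orderOf_dvd_natCard (⟨_, hdiff a ha b hb⟩ : commutator G)
    rwa [← Subgroup.orderOf_coe, orderOf_mul hD.1 ha hb hnc] at this
  have hnotmem : ∀ x ∈ D, x ∉ commutator G := by
    intro x hx hxm
    have := orderOf_dvd_natCard (⟨_, hxm⟩ : commutator G)
    rw [← Subgroup.orderOf_coe, h3, hD.1.1 x hx] at this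
    exact absurd this (by decide)
  have hidx : (commutator G).index = 2 := by
    refine le_antisymm (index_le_two_of_sup (mul_self hD.1 hd) (sup_zpowers_eq_top hD (hdiff d hd))) ?_
    have h0 : (commutator G).index ≠ 0 := Subgroup.index_ne_zero_of_finite
    have h1 : (commutator G).index ≠ 1 := fun h =>
      hnotmem d hd (Subgroup.index_eq_one.1 h ▸ Subgroup.mem_top d)
    omega
  have hG : Nat.card G = 6 := by rw [← (commutator G).card_mul_index, h3, hidx]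
  -- the members are the coset of the derived group
  have hcard : D.ncard ≤ 3 := by
    rw [← Set.ncard_image_of_injective D (mul_right_injective d), ← h3, ← Nat.card_coe_set_eq]
    exact Nat.card_mono (Set.toFinite _) (by rintro _ ⟨x, hx, rfl⟩; exact hdiff d hd x hx)
  have hb' : b * a * b⁻¹ ∈ D := class_conj hD b a ha
  have hne1 : b * a * b⁻¹ ≠ a := fun h => hnc (by
    have h' : b * a = a * b := by simpa using congrArg (· * b) h
    exact h'.symm)
  have hne2 : b * a * b⁻¹ ≠ b := fun h => hnc (by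
    have h' : a = b := by simpa [mul_assoc] using congrArg (fun z => b⁻¹ * z * b) h
    exact h' ▸ Commute.refl a)
  have hD3 : D.ncard = 3 := by
    refine le_antisymm hcard ?_
    have hsub : ({a, b, b * a * b⁻¹} : Set G) ⊆ D := by
      rintro x (rfl | rfl | rfl) <;> assumption
    refine le_trans ?_ (Set.ncard_le_ncard hsub (Set.toFinite _))
    rw [Set.ncard_eq_three.2 ⟨a, b, b * a * b⁻¹, fun h => hnc (h ▸ Commute.refl a), hne1.symm, hne2.symm, rfl⟩]
  letI : MulAction G D :=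
    { smul := fun g x => ⟨g * x * g⁻¹, class_conj hD g x x.2⟩
      one_smul := fun x => Subtype.ext (show (1 : G) * x * 1⁻¹ = x by rw [inv_one, one_mul, mul_one])
      mul_smul := fun g h x => Subtype.ext (show g * h * x * (g * h)⁻¹ = g * (h * x * h⁻¹) * g⁻¹ by group) }
  let ε : D ≃ Fin 3 := (Finite.equivFin D).trans (finCongr (by rw [Nat.card_coe_set_eq, hD3]))
  let φ : G →* Equiv.Perm (Fin 3) := ε.permCongrHom.toMonoidHom.comp (MulAction.toPermHom G D)
  have hinj : Function.Injective φ := by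
    rw [injective_iff_map_eq_one]
    intro g hg
    have h1 : MulAction.toPermHom G D g = 1 := ε.permCongrHom.injective (by rw [map_one]; exact hg)
    have hcen : g ∈ Subgroup.center G := central_of_commute_class hD fun x hx => by
      have h2 : g * x * g⁻¹ = x := congrArg Subtype.val (Equiv.congr_fun h1 ⟨x, hx⟩)
      exact (mul_inv_eq_iff_eq_mul.1 h2).symm
    rwa [hZ, Subgroup.mem_bot] at hcen
  let e : G ≃* Equiv.Perm (Fin 3) :=
    MulEquiv.ofBijective φ ((Nat.bijective_iff_injective_and_card φ).2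
      ⟨hinj, by rw [hG, Nat.card_perm, Nat.card_fin]; rfl⟩)
  refine ⟨e, Set.eq_of_subset_of_ncard_le ?_ ?_ (Set.toFinite _)⟩
  · rintro _ ⟨x, hx, rfl⟩
    refine swap_perm_three _ (fun h => ?_) (by rw [← map_mul, mul_self hD.1 hx, map_one])
    exact one_notMem_set hD (e.injective (h.trans (map_one e).symm) ▸ hx)
  · rw [Set.ncard_image_of_injective _ e.injective, hD3]
    refine (Set.ncard_le_ncard swaps_three_subset (Finset.finite_toSet _)).trans ?_
    rw [Set.ncard_coe_finset]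
    exact Finset.card_le_three

/-- S5368 from the classification. -/
theorem fischer_cases (hMain : MainStatement.{u}) (hD : IsThreeTranspositionClass D)
    (hZ : Subgroup.center G = ⊥) (hsimple : IsSimpleGroup (commutator G)) :
    (∃ n : ℕ, ∃ e : G ≃* Equiv.Perm (Fin n), e '' D = {σ : Equiv.Perm (Fin n) | σ.IsSwap}) ∨ (∃ m : ℕ, ∃ e : G ≃* Matrix.symplecticGroup (Fin m) (ZMod 2), e '' D = {g : Matrix.symplecticGroup (Fin m) (ZMod 2) | ((g : Matrix (Fin m ⊕ Fin m) (Fin m ⊕ Fin m) (ZMod 2)) - 1).rank = 1}) ∨ (∃ (n : ℕ) (F : Type) (_ : Field F) (_ : Fintype F), Fintype.card F = 4 ∧ ∃ e : G ≃* Cfsg.PSU n F 2, e '' D = (QuotientGroup.mk : ↥(Cfsg.SU n F 2) → Cfsg.PSU n F 2) '' {g : ↥(Cfsg.SU n F 2) | (((g : Matrix.SpecialLinearGroup (Fin n) F) : Matrix (Fin n) (Fin n) F) - 1).rank = 1}) ∨ ((∃ m : ℕ, ∃ e : G ≃* ↥(Cfsg.isometryGroup (ZMod 2) (Cfsg.quadFormPlus m (ZMod 2))), e '' D = {g : ↥(Cfsg.isometryGroup (ZMod 2) (Cfsg.quadFormPlus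 m (ZMod 2))) | (((g : GL (Fin m ⊕ Fin m) (ZMod 2)) : Matrix (Fin m ⊕ Fin m) (Fin m ⊕ Fin m) (ZMod 2)) - 1).rank = 1}) ∨ (∃ m : ℕ, ∃ e : G ≃* ↥(Cfsg.isometryGroup (ZMod 2) (Cfsg.quadFormMinus m (ZMod 2) 1 1)), e '' D = {g : ↥(Cfsg.isometryGroup (ZMod 2) (Cfsg.quadFormMinus m (ZMod 2) 1 1)) | (((g : GL ((Fin m ⊕ Fin m) ⊕ Fin 2) (ZMod 2)) : Matrix ((Fin m ⊕ Fin m) ⊕ Fin 2) ((Fin m ⊕ Fin m) ⊕ Fin 2) (ZMod 2)) - 1).rank = 1})) ∨ (∃ n : ℕ, ∃ Q : QuadraticForm (ZMod 3) (Fin n → ZMod 3), (QuadraticMap.polarBilin Q).Nondegenerate ∧ ∃ c : ZMod 3, c ≠ 0 ∧ ∃ e : G ≃* ↥(Cfsg.reflectionSubgroup (⇑Q) c) ⧸ Subgroup.center ↥(Cfsg.reflectionSubgroup (⇑Q) c), e '' D = (QuotientGroup.mk : ↥(Cfsg.reflectionSubgroup (⇑Q) c) → _) '' {g : ↥(Cfsg.reflectionSubgroup (⇑Q) c) | (g : ↥(Cfsg.isometryGroup (ZMod 3) (⇑Q))) ∈ Cfsg.reflectionsOfNorm (⇑Q) c}) ∨ (Cfsg.IsOfTypeM22 G D ∨ Cfsg.IsOfTypeM23 G D ∨ Cfsg.IsOfTypeM24 G D) := by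
  haveI := hsimple
  by_cases hab : ∀ x y : commutator G, x * y = y * x
  · exact Or.inl ⟨3, perm_three_of_comm hD hZ hab⟩
  push Not at hab
  obtain ⟨f, -, hmod, -⟩ := hMain G D (setting_of_simple hD hab) hZ
  cases f with
  | sym n => exact Or.inl ⟨n, hmod⟩
  | sp m => exact Or.inr (Or.inl ⟨m, hmod⟩)
  | unit n =>
    obtain ⟨F, i1, i2, hF, hmod⟩ := hmod
    exact Or.inr (Or.inr (Or.inl ⟨n, F, i1, i2, hF, hmod⟩))
  | oPlus m => exact Or.inr (Or.inr (Or.inr (Or.inl (Or.inl ⟨m, hmod⟩))))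
  | oMinus m => exact Or.inr (Or.inr (Or.inr (Or.inl (Or.inr ⟨m - 1, hmod⟩))))
  | refl N δ =>
    obtain ⟨Q, hQ, c, hc', -, e, he⟩ := hmod
    exact Or.inr (Or.inr (Or.inr (Or.inr (Or.inl ⟨N, Q, hQ, c, hc', e, he⟩))))
  | m22 => exact Or.inr (Or.inr (Or.inr (Or.inr (Or.inr (Or.inl hmod)))))
  | m23 => exact Or.inr (Or.inr (Or.inr (Or.inr (Or.inr (Or.inr (Or.inl hmod))))))
  | m24 => exact Or.inr (Or.inr (Or.inr (Or.inr (Or.inr (Or.inr (Or.inr hmod))))))

end CfsgLib.ThreeTrans.Fischer
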